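import Mathlib
import Cfsg.Agent.Nodes.RGDLib
import Cfsg.Agent.Nodes.Bruhat
import Cfsg.Agent.Nodes.Unique
import Cfsg.Agent.OddHalf.NI.Mult.SL

/-!
# The torus of a root group datum (node NI, (MULT))

`R : RGD cs h p T n X` with `G1 cs h X = ⊤`.

* `iSup_eq` : `T` is generated by the `T ∩ ⟨X_i, X_{-i}⟩`;
* `Coord cs h X F s` : homomorphisms `s i : SL₂(F i) →* Y` onto `⟨X_i, X_{-i}⟩`;
* `mem_T_of_conj` : an element of `⟨X_i, X_{-i}⟩` interchanging `X_i` and `X_{-i}` lies in `T n_i`;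
* `torus` : `T` is generated by the `s i (dg t)`.
-/

set_option autoImplicit false
set_option linter.unusedSectionVars false

namespace Cfsg.Agent.OddHalf.NI.Mult

open CoxeterSystem Cfsg.Agent.ChevalleyStructure.CoxeterGeom Cfsg.Agent.Tits.Roots Cfsg.Agent.Tits.Core
  Cfsg.Agent.Tits.RootComb Cfsg.Agent.Nodes.Comb Cfsg.Agent.Nodes.Reps Cfsg.Agent.Nodes.BNOf
  Cfsg.Agent.Nodes.RGDLib Cfsg.Agent.Nodes.Bruhat
open scoped commutatorElement

variable {I W Y : Type*} [Fintype I] [DecidableEq I] [Group W] [Group Y] {M : CoxeterMatrix I}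
  {cs : CoxeterSystem M W} {A : I → I → ℤ} {h : IsCartan M A} {p : ℕ} {T : Subgroup Y} {n : I → Y}
  {X : (I → ℤ) → Subgroup Y}

/-! ### Coxeter combinatorics -/

section Cox

variable (cs h)

/-- an element mapping all fundamental roots to positive roots is trivial -/
theorem eq_one_of_nonneg {v : W} (hv : ∀ k, 0 ≤ rep cs h v (sr k)) : v = 1 := by
  by_contra h1
  obtain ⟨k, hk⟩ := cs.exists_rightDescent_of_ne_one h1
  exact (IsRoot.act (isRoot_sr cs h k) v).not_pos_neg (hv k) (nonpos_of_lt cs h v k hk)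

/-- `w α_j = α_i` implies `w s_j w⁻¹ = s_i` -/
theorem mul_simple_of_rep {w : W} {i j : I} (hw : rep cs h w (sr j) = sr i) :
    w * cs.simple j * w⁻¹ = cs.simple i := by
  have h1 : cs.simple i * (w * cs.simple j * w⁻¹) = 1 := by
    apply eq_one_of_nonneg cs h
    intro k
    have e : rep cs h (cs.simple i * (w * cs.simple j * w⁻¹)) (sr k) =
        rep cs h (cs.simple i) (rep cs h w (rep cs h (cs.simple j) (rep cs h w⁻¹ (sr k)))) := by
      rw [rep_mul_apply, rep_mul_apply, rep_mul_apply]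
    have e2 : rep cs h w (rep cs h (cs.simple j) (rep cs h w⁻¹ (sr k))) =
        sr k - pairing A j (rep cs h w⁻¹ (sr k)) • sr i := by
      rw [rep_simple_eq, map_sub, rep_apply_inv, map_smul, hw]
    have hr : IsRoot cs h (rep cs h (cs.simple i * (w * cs.simple j * w⁻¹)) (sr k)) :=
      IsRoot.act (isRoot_sr cs h k) _
    by_cases hk : k = i
    · subst hk
      have e3 : rep cs h w⁻¹ (sr k) = sr j := by rw [← hw, rep_inv_apply]
      rw [e, e3, rep_simple_sr, map_neg, hw, map_neg, rep_simple_sr, neg_neg]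
      exact sr_nonneg k
    · rcases hr.pos_or_neg with h2 | h2
      · exact h2
      · exfalso
        have h3 := h2 k
        rw [e, rep_simple_apply cs h i _ k hk, e2, Pi.sub_apply, sr_self, Pi.smul_apply, sr_ne hk,
          smul_zero, sub_zero, Pi.zero_apply] at h3
        exact absurd h3 (by norm_num)
  have h2 : w * cs.simple j * w⁻¹ = (cs.simple i)⁻¹ := (eq_inv_of_mul_eq_one_right h1)
  rw [h2, cs.inv_simple]

/-- walking along a word -/
theorem exists_walk {x : I → ℤ} (hx : IsRoot cs h x) (h0 : 0 ≤ x) : ∀ η : List I,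
    rep cs h (cs.wordProd η) x ≤ 0 →
    ∃ η₁ i η₂, η = η₁ ++ i :: η₂ ∧ rep cs h (cs.wordProd η₂) x = sr i := by
  intro η
  induction η with
  | nil =>
    intro h1
    rw [wordProd_nil, map_one, Module.End.one_apply] at h1
    exact absurd h1 (hx.not_pos_neg h0)
  | cons i η ih =>
    intro h1
    have hr : IsRoot cs h (rep cs h (cs.wordProd η) x) := hx.act _
    rcases hr.pos_or_neg with h2 | h2
    · refine ⟨[], i, η, rfl, ?_⟩
      by_contra h3
      have h4 := hr.simple_nonneg h2 i h3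
      rw [wordProd_cons, rep_mul_apply] at h1
      exact (hr.act (cs.simple i)).not_pos_neg h4 h1
    · obtain ⟨η₁, j, η₂, e, h3⟩ := ih h2
      exact ⟨i :: η₁, j, η₂, by rw [e]; rfl, h3⟩

/-- a nonempty word with product `1` has a factor `η j` with `η α_j < 0` -/
theorem exists_neg_prefix : ∀ ω : List I, (∀ η j ζ, ω = η ++ j :: ζ → 0 ≤ rep cs h (cs.wordProd η) (sr j)) →
    cs.length (cs.wordProd ω) = ω.length := by
  intro ω
  induction ω using List.reverseRecOn with
  | nil => intro _; rw [wordProd_nil, cs.length_one]; rfl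
  | append_singleton ω j ih =>
    intro h1
    have h2 := ih fun η k ζ e => h1 η k (ζ ++ [j]) (by rw [e]; simp)
    have h3 := h1 ω j [] rfl
    rw [wordProd_append, wordProd_singleton, List.length_append, List.length_singleton, ← h2]
    rcases cs.length_mul_simple (cs.wordProd ω) j with h4 | h4
    · exact h4
    · exfalso
      exact (IsRoot.act (isRoot_sr cs h j) (cs.wordProd ω)).not_pos_neg h3
        (nonpos_of_lt cs h _ j (by omega))

end Cox

/-! ### The rank one subgroups -/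

/-- `⟨X_i, X_{-i}⟩` -/
def KK (X : (I → ℤ) → Subgroup Y) (x : I → ℤ) : Subgroup Y := X x ⊔ X (-x)

theorem KK_neg (x : I → ℤ) : KK X (-x) = KK X x := by
  unfold KK
  rw [neg_neg, sup_comm]

section R

variable (R : RGD cs h p T n X)

include R

theorem cj_KK {w : W} {g : Y} (hg : Rp cs R.nsys w g) {x : I → ℤ} (hx : IsRoot cs h x) :
    cj g (KK X x) = KK X (rep cs h w x) := by
  unfold KK
  rw [cj_sup, R.conj_rp hg hx, R.conj_rp hg hx.neg, map_neg]

theorem cj_KK_T {t : Y} (ht : t ∈ T) {x : I → ℤ} (hx : IsRoot cs h x) : cj t (KK X x) = KK X x := by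
  unfold KK
  rw [cj_sup, R.tor x hx t ht, R.tor _ hx.neg t ht]

/-- representatives of the fundamental reflections in the rank one subgroups -/
theorem exists_nK (i : I) : ∃ g ∈ KK X (sr i), Rp cs R.nsys (cs.simple i) g := by
  obtain ⟨u, hu, hu1⟩ := exists_ne_one R i
  obtain ⟨g, hg⟩ := exists_rp cs R.nsys (cs.simple i)
  have h1 := R.conj_mem (rp_simple cs R.nsys i) (isRoot_sr cs h i) hu
  rw [rep_simple_sr] at h1
  obtain ⟨a, ha, t, ht, b, hb, e⟩ := R.rk1 i _ h1 (by
    intro h2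
    exact hu1 (by
      have : u = (n i)⁻¹ * (n i * u * (n i)⁻¹) * n i := by group
      rw [this, h2]; group))
  refine ⟨t * n i, ?_, ?_⟩
  · have e2 : t * n i = a⁻¹ * (n i * u * (n i)⁻¹) * b⁻¹ := by rw [e]; group
    rw [e2]
    exact mul_mem (mul_mem (inv_mem ((le_sup_left : X (sr i) ≤ KK X (sr i)) ha))
      ((le_sup_right : X (-sr i) ≤ KK X (sr i)) h1)) (inv_mem ((le_sup_left : X (sr i) ≤ KK X (sr i)) hb))
  · have h2 := (rp_of_mem (cs := cs) (hN := R.nsys) ht).mul (rp_simple cs R.nsys i)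
    rwa [one_mul] at h2

/-- the subgroup generated by the `T ∩ ⟨X_i, X_{-i}⟩` -/
def T0 (_ : RGD cs h p T n X) : Subgroup Y := ⨆ i, T ⊓ KK X (sr i)

theorem T0_le : T0 R ≤ T := iSup_le fun _ => inf_le_left

theorem le_T0 (i : I) : T ⊓ KK X (sr i) ≤ T0 R := le_iSup (fun i => T ⊓ KK X (sr i)) i

/-- `g t g⁻¹ ∈ T₀` for `t ∈ T₀` and `g ∈ ⟨X_i, X_{-i}⟩` over `s_i` -/
theorem conj_T0 {i : I} {w : W} {g : Y} (hg : g ∈ KK X (sr i)) (hgr : Rp cs R.nsys w g) {t : Y}
    (ht : t ∈ T0 R) : g * t * g⁻¹ ∈ T0 R := by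
  have h1 : t ∈ T := T0_le R ht
  have h2 : g * t * g⁻¹ ∈ T := (hgr.mem_normalizer t).1 h1
  have h3 : t * g⁻¹ * t⁻¹ ∈ KK X (sr i) := by
    have := (conj_mem_cj (g := t)).2 (inv_mem hg)
    rwa [cj_KK_T R h1 (isRoot_sr cs h i)] at this
  have h4 : g * t * g⁻¹ * t⁻¹ ∈ T ⊓ KK X (sr i) := by
    refine Subgroup.mem_inf.2 ⟨mul_mem h2 (inv_mem h1), ?_⟩
    have e : g * t * g⁻¹ * t⁻¹ = g * (t * g⁻¹ * t⁻¹) := by group
    rw [e]
    exact mul_mem hg h3
  have e : g * t * g⁻¹ = (g * t * g⁻¹ * t⁻¹) * t := by group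
  rw [e]
  exact mul_mem (le_T0 R i h4) ht

variable {m : I → Y} (hm : ∀ i, m i ∈ KK X (sr i)) (hmr : ∀ i, Rp cs R.nsys (cs.simple i) (m i))

include hm hmr

theorem m_normalizer (i : I) : m i ∈ Subgroup.normalizer (T0 R : Set Y) := by
  intro t
  constructor
  · exact fun ht => conj_T0 R (hm i) (hmr i) ht
  · intro ht
    have h1 := conj_T0 R (inv_mem (hm i)) (hmr i).inv ht
    have e : (m i)⁻¹ * (m i * t * (m i)⁻¹) * (m i)⁻¹⁻¹ = t := by group
    rwa [e] at h1

/-- the lift of a word -/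
def PW (m : I → Y) (ω : List I) : Y := (ω.map m).prod

omit R hm hmr [Fintype I] [DecidableEq I] in
theorem PW_append (ω η : List I) : PW m (ω ++ η) = PW m ω * PW m η := by
  unfold PW; rw [List.map_append, List.prod_append]

omit R hm hmr [Fintype I] [DecidableEq I] in
theorem PW_cons (i : I) (η : List I) : PW m (i :: η) = m i * PW m η := by
  unfold PW; rw [List.map_cons, List.prod_cons]

theorem rp_PW (ω : List I) : Rp cs R.nsys (cs.wordProd ω) (PW m ω) := by
  induction ω with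
  | nil => rw [wordProd_nil]; exact rp_one
  | cons i ω ih => rw [wordProd_cons, PW_cons]; exact (hmr i).mul ih

theorem PW_normalizer (ω : List I) : PW m ω ∈ Subgroup.normalizer (T0 R : Set Y) := by
  induction ω with
  | nil => exact one_mem _
  | cons i ω ih => rw [PW_cons]; exact mul_mem (m_normalizer R hm hmr i) ih

/-- **words with product `1` lift to elements of `T₀`** -/
theorem PW_mem_T0 : ∀ ω : List I, cs.wordProd ω = 1 → PW m ω ∈ T0 R := by
  intro ω
  induction hN : ω.length using Nat.strong_induction_on generalizing ω with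
  | _ N ih =>
  intro hω
  rcases Nat.eq_zero_or_pos N with h0 | hpos
  · rw [h0, List.length_eq_zero_iff] at hN
    rw [hN]
    exact one_mem _
  -- a decomposition with a negative root
  obtain ⟨η, j, ζ, e, hneg⟩ : ∃ η j ζ, ω = η ++ j :: ζ ∧ ¬ 0 ≤ rep cs h (cs.wordProd η) (sr j) := by
    by_contra hcon
    push Not at hcon
    have h1 := exists_neg_prefix cs h ω hcon
    rw [hω, cs.length_one] at h1
    omega
  have hneg' : rep cs h (cs.wordProd η) (sr j) ≤ 0 :=
    ((IsRoot.act (isRoot_sr cs h j) _).not_nonneg_iff).1 hneg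
  obtain ⟨η₁, i, η₂, e2, h2⟩ := exists_walk cs h (isRoot_sr cs h j) (sr_nonneg j) η hneg'
  have hW := mul_simple_of_rep cs h h2
  -- `m_i P(η₂) m_j = (m_i t m_i⁻¹) m_i² P(η₂)` with `t = P(η₂) m_j P(η₂)⁻¹ m_i⁻¹`
  obtain ⟨t, ht⟩ : ∃ t, t = PW m η₂ * m j * (PW m η₂)⁻¹ * (m i)⁻¹ := ⟨_, rfl⟩
  have hr2 := rp_PW R hm hmr η₂
  have htT : t ∈ T := by
    have h3 := ((hr2.mul (hmr j)).mul hr2.inv).mul (hmr i).inv
    rw [hW, mul_inv_cancel] at h3
    rw [ht]
    exact h3.mem_of_one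
  have htK : t ∈ KK X (sr i) := by
    have h3 : PW m η₂ * m j * (PW m η₂)⁻¹ ∈ KK X (sr i) := by
      have h4 := (conj_mem_cj (g := PW m η₂)).2 (hm j)
      rwa [cj_KK R hr2 (isRoot_sr cs h j), h2] at h4
    rw [ht]
    exact mul_mem h3 (inv_mem (hm i))
  have htT0 : t ∈ T0 R := le_T0 R i ⟨htT, htK⟩
  have hsq : m i * m i ∈ T0 R := by
    refine le_T0 R i ⟨?_, mul_mem (hm i) (hm i)⟩
    have h3 := (hmr i).mul (hmr i)
    rw [cs.simple_mul_simple_self] at h3
    exact h3.mem_of_one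
  have h5 : m i * t * (m i)⁻¹ * (m i * m i) ∈ T0 R := mul_mem (conj_T0 R (hm i) (hmr i) htT0) hsq
  have e5 : m i * PW m η₂ * m j = (m i * t * (m i)⁻¹ * (m i * m i)) * PW m η₂ := by
    rw [ht]; group
  -- the shorter word
  have hω2 : cs.wordProd (η₁ ++ (η₂ ++ ζ)) = 1 := by
    have h6 : cs.simple i * cs.wordProd η₂ * cs.simple j = cs.wordProd η₂ := by
      rw [← hW]
      have h7 : cs.simple j * cs.simple j = 1 := cs.simple_mul_simple_self j
      calc cs.wordProd η₂ * cs.simple j * (cs.wordProd η₂)⁻¹ * cs.wordProd η₂ * cs.simple j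
          = cs.wordProd η₂ * (cs.simple j * cs.simple j) := by group
        _ = cs.wordProd η₂ := by rw [h7, mul_one]
    rw [← hω, e, e2]
    simp only [wordProd_append, wordProd_cons]
    calc cs.wordProd η₁ * (cs.wordProd η₂ * cs.wordProd ζ)
        = cs.wordProd η₁ * (cs.simple i * cs.wordProd η₂ * cs.simple j) * cs.wordProd ζ := by rw [h6]; group
      _ = cs.wordProd η₁ * (cs.simple i * cs.wordProd η₂) * (cs.simple j * cs.wordProd ζ) := by group
  have h8 := ih (η₁ ++ (η₂ ++ ζ)).length (by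
    rw [← hN, e, e2]
    simp only [List.length_append, List.length_cons]
    omega) (η₁ ++ (η₂ ++ ζ)) rfl hω2
  have e9 : PW m ω = (PW m η₁ * (m i * t * (m i)⁻¹ * (m i * m i)) * (PW m η₁)⁻¹) *
      PW m (η₁ ++ (η₂ ++ ζ)) := by
    rw [e, e2]
    simp only [PW_append, PW_cons]
    calc PW m η₁ * (m i * PW m η₂) * (m j * PW m ζ) = PW m η₁ * (m i * PW m η₂ * m j) * PW m ζ := by group
      _ = _ := by rw [e5]; group
  rw [e9]
  exact mul_mem ((PW_normalizer R hm hmr η₁ _).1 h5) h8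

omit R hm hmr in
theorem wordProd_flatten_pair (i j : I) (k : ℕ) :
    cs.wordProd (List.replicate k [i, j]).flatten = (cs.simple i * cs.simple j) ^ k := by
  induction k with
  | zero => simp
  | succ k ih =>
    rw [List.replicate_succ, List.flatten_cons, wordProd_append, ih, pow_succ']
    congr 1
    simp [wordProd_cons]

omit R hm hmr [Fintype I] [DecidableEq I] in
theorem PW_flatten_pair (i j : I) (k : ℕ) :
    PW m (List.replicate k [i, j]).flatten = (m i * m j) ^ k := by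
  induction k with
  | zero => simp [PW]
  | succ k ih =>
    rw [List.replicate_succ, List.flatten_cons, PW_append, ih, pow_succ']
    congr 1
    simp [PW]

/-- the `m i` satisfy the Coxeter relations modulo `T₀` -/
theorem nsysM : NSys M (T0 R) m where
  norm := m_normalizer R hm hmr
  rel i j := by
    rw [← PW_flatten_pair]
    apply PW_mem_T0 R hm hmr
    rw [wordProd_flatten_pair, cs.simple_mul_simple_pow]

/-- the root group datum with the small torus -/
theorem rgdM : RGD cs h p (T0 R) m X where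
  nsys := nsysM R hm hmr
  conj i x hx := R.conj_rp (hmr i) hx
  tor x hx t ht := R.tor x hx t (T0_le R ht)
  comm := R.comm
  rk1 i u hu hu1 := by
    obtain ⟨a, ha, t, ht, b, hb, e⟩ := R.rk1 i u hu hu1
    have h1 : t * n i * (m i)⁻¹ ∈ T := by
      have h2 := ((rp_of_mem (cs := cs) (hN := R.nsys) ht).mul (rp_simple cs R.nsys i)).mul (hmr i).inv
      rw [one_mul, mul_inv_cancel] at h2
      exact h2.mem_of_one
    have h2 : t * n i * (m i)⁻¹ ∈ KK X (sr i) := by
      have e2 : t * n i * (m i)⁻¹ = a⁻¹ * u * b⁻¹ * (m i)⁻¹ := by rw [e]; group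
      rw [e2]
      exact mul_mem (mul_mem (mul_mem (inv_mem ((le_sup_left : X (sr i) ≤ KK X (sr i)) ha))
        ((le_sup_right : X (-sr i) ≤ KK X (sr i)) hu)) (inv_mem ((le_sup_left : X (sr i) ≤ KK X (sr i)) hb)))
        (inv_mem (hm i))
    exact ⟨a, ha, _, le_T0 R i ⟨h1, h2⟩, b, hb, by rw [e]; group⟩
  pgrp := R.pgrp
  notp := R.notp
  tcop := Nat.Coprime.coprime_dvd_left (Subgroup.card_dvd_of_le (T0_le R)) R.tcop

/-- representatives for the small torus are representatives -/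
theorem rp_of_rpM {w : W} {g : Y} (hg : Rp cs (nsysM R hm hmr) w g) : Rp cs R.nsys w g := by
  obtain ⟨ω, rfl⟩ := cs.wordProd_surjective w
  have h1 : Rp cs (nsysM R hm hmr) (cs.wordProd ω) (PW m ω) := by
    clear hg
    induction ω with
    | nil => rw [wordProd_nil]; exact rp_one
    | cons i ω ih => rw [wordProd_cons, PW_cons]; exact (rp_simple cs (nsysM R hm hmr) i).mul ih
  have h2 := (rp_PW R hm hmr ω).mul_mem_right (T0_le R (h1.unique hg))
  have e : PW m ω * ((PW m ω)⁻¹ * g) = g := by group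
  rwa [e] at h2

omit m hm hmr in
/-- **`T` is generated by the `T ∩ ⟨X_i, X_{-i}⟩`.** -/
theorem iSup_eq [Finite W] (hG : G1 cs h X = ⊤) : T0 R = T := by
  choose m hm hmr using exists_nK R
  apply le_antisymm (T0_le R)
  intro t ht
  have R0 := rgdM R hm hmr
  have h1 : t ∈ GG cs h (T0 R) X := by
    have h2 : G1 cs h X ≤ GG cs h (T0 R) X := le_sup_right
    rw [hG] at h2
    exact h2 (Subgroup.mem_top t)
  obtain ⟨w, hw⟩ := (mem_GG R0).1 h1
  have hB : RGD.B cs h (T0 R) X ≤ RGD.B cs h T X := sup_le_sup_right (T0_le R) _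
  have h2 : Cell R.nsys cs h X w t := by
    obtain ⟨b₁, hb₁, k, hk, b₂, hb₂, e⟩ := hw
    exact ⟨b₁, hB hb₁, k, rp_of_rpM R hm hmr hk, b₂, hB hb₂, e⟩
  have h3 : Cell R.nsys cs h X 1 t := cell_one_of_mem (RGD.T_le_B ht)
  have h4 := Cell.unique R h2 h3
  subst h4
  have h5 := hw.mem_of_one
  obtain ⟨t', ht', u, hu, e⟩ := (R0.mem_B).1 h5
  have h6 : u ∈ T := by
    have e2 : u = t'⁻¹ * t := by rw [e]; group
    rw [e2]
    exact mul_mem (inv_mem (T0_le R ht')) ht
  have h7 : u = 1 := by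
    obtain ⟨k, hk⟩ := (R.isPGroup_Upos) ⟨u, hu⟩
    have h8 : u ^ p ^ k = 1 := by simpa using congrArg Subtype.val hk
    have h9 : u ^ Nat.card T = 1 := by
      have h3 : (⟨u, h6⟩ : T) ^ Nat.card T = 1 := pow_card_eq_one'
      have := congrArg Subtype.val h3
      rwa [SubgroupClass.coe_pow] at this
    have hc : (Nat.card T).Coprime (p ^ k) := Nat.Coprime.pow_right k R.tcop
    have h10 : orderOf u ∣ 1 := by
      rw [← hc]
      exact Nat.dvd_gcd (orderOf_dvd_of_pow_eq_one h9) (orderOf_dvd_of_pow_eq_one h8)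
    exact orderOf_eq_one_iff.1 (Nat.dvd_one.1 h10)
  rw [e, h7, mul_one]
  exact ht'

end R

/-! ### Coordinates -/

/-- **Coordinates**: homomorphisms `s i : SL₂(F i) →* Y` mapping the upper unipotent subgroup onto `X_i` and the
lower one onto `X_{-i}`. -/
structure Coord (X : (I → ℤ) → Subgroup Y) (F : I → Type*) [∀ i, Field (F i)]
    (s : ∀ i, Matrix.SpecialLinearGroup (Fin 2) (F i) →* Y) : Prop where
  up : ∀ i, (X (sr i) : Set Y) = Set.range fun a : F i => s i (up a)
  lo : ∀ i, (X (-sr i) : Set Y) = Set.range fun a : F i => s i (lo a)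

section C

variable {F : I → Type*} [∀ i, Field (F i)] {s : ∀ i, Matrix.SpecialLinearGroup (Fin 2) (F i) →* Y}

theorem nn_inv {K : Type*} [Field K] (x : Kˣ) : (nn x)⁻¹ = nn (-x) := by
  rw [inv_eq_iff_mul_eq_one]
  apply Subtype.ext
  rw [Matrix.SpecialLinearGroup.coe_mul, Matrix.SpecialLinearGroup.coe_one, coe_nn, coe_nn, Matrix.mul_fin_two,
    Matrix.one_fin_two]
  simp

namespace Coord

variable (C : Coord X F s)

include C

theorem mem_up (i : I) (a : F i) : s i (Mult.up a) ∈ X (sr i) := by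
  have : s i (Mult.up a) ∈ (X (sr i) : Set Y) := by rw [C.up]; exact ⟨a, rfl⟩
  exact this

theorem mem_lo (i : I) (a : F i) : s i (Mult.lo a) ∈ X (-sr i) := by
  have : s i (Mult.lo a) ∈ (X (-sr i) : Set Y) := by rw [C.lo]; exact ⟨a, rfl⟩
  exact this

theorem exists_up {i : I} {x : Y} (hx : x ∈ X (sr i)) : ∃ a, s i (Mult.up a) = x := by
  have : x ∈ (X (sr i) : Set Y) := hx
  rw [C.up] at this
  exact this

theorem exists_lo {i : I} {x : Y} (hx : x ∈ X (-sr i)) : ∃ a, s i (Mult.lo a) = x := by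
  have : x ∈ (X (-sr i) : Set Y) := hx
  rw [C.lo] at this
  exact this

theorem cj_nn_le (i : I) (x : (F i)ˣ) : cj (s i (nn x)) (X (sr i)) ≤ X (-sr i) := by
  intro y hy
  rw [mem_cj] at hy
  obtain ⟨a, ha⟩ := C.exists_up hy
  have e : y = s i (nn x * Mult.up a * (nn x)⁻¹) := by
    rw [map_mul, map_mul, map_inv, ha]; group
  rw [e, nn_mul_up]
  exact C.mem_lo i _

theorem cj_nn_le' (i : I) (x : (F i)ˣ) : cj (s i (nn x)) (X (-sr i)) ≤ X (sr i) := by
  intro y hy
  rw [mem_cj] at hy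
  obtain ⟨a, ha⟩ := C.exists_lo hy
  have e : y = s i (nn x * Mult.lo a * (nn x)⁻¹) := by
    rw [map_mul, map_mul, map_inv, ha]; group
  rw [e, nn_mul_lo]
  exact C.mem_up i _

theorem cj_nn (i : I) (x : (F i)ˣ) : cj (s i (nn x)) (X (sr i)) = X (-sr i) := by
  apply le_antisymm (C.cj_nn_le i x)
  have h1 := cj_mono (s i (nn x)) (C.cj_nn_le' i (-x))
  rwa [← nn_inv, map_inv, cj_cj_inv] at h1

theorem cj_nn' (i : I) (x : (F i)ˣ) : cj (s i (nn x)) (X (-sr i)) = X (sr i) := by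
  apply le_antisymm (C.cj_nn_le' i x)
  have h1 := cj_mono (s i (nn x)) (C.cj_nn_le i (-x))
  rwa [← nn_inv, map_inv, cj_cj_inv] at h1

theorem KK_le_range (i : I) : KK X (sr i) ≤ (s i).range := by
  unfold KK
  refine sup_le ?_ ?_
  · intro x hx
    obtain ⟨a, rfl⟩ := C.exists_up hx
    exact ⟨_, rfl⟩
  · intro x hx
    obtain ⟨a, rfl⟩ := C.exists_lo hx
    exact ⟨_, rfl⟩

theorem range_le_KK (i : I) : (s i).range ≤ KK X (sr i) := by
  have h1 : (KK X (sr i)).comap (s i) = ⊤ :=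
    mem_of_up_lo (fun a => (le_sup_left : X (sr i) ≤ KK X (sr i)) (C.mem_up i a))
      (fun a => (le_sup_right : X (-sr i) ≤ KK X (sr i)) (C.mem_lo i a))
  rintro _ ⟨g, rfl⟩
  have : g ∈ (KK X (sr i)).comap (s i) := by rw [h1]; exact Subgroup.mem_top g
  exact this

end Coord

section R

variable (R : RGD cs h p T n X)

include R

theorem X_ne_neg [Finite W] (i : I) : X (sr i) ≠ X (-sr i) := by
  intro h1
  apply R.not_neg_le_B i
  rw [← h1]
  exact RGD.X_le_B (isRoot_sr cs h i) (sr_nonneg i)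

/-- an element of `X_i` normalising `X_{-i}` is trivial -/
theorem eq_one_of_norm [Finite W] {i : I} {a : Y} (ha : a ∈ X (sr i)) (hn : cj a (X (-sr i)) = X (-sr i)) :
    a = 1 := by
  by_contra hne
  have hr := rp_simple cs R.nsys i
  have c1 : cj (n i) (X (sr i)) = X (-sr i) := by rw [R.conj_rp hr (isRoot_sr cs h i), rep_simple_sr]
  have c2 : cj (n i) (X (-sr i)) = X (sr i) := by
    rw [R.conj_rp hr (isRoot_sr cs h i).neg, map_neg, rep_simple_sr, neg_neg]
  have hv : n i * a * (n i)⁻¹ ∈ X (-sr i) := by rw [← c1]; exact conj_mem_cj.2 ha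
  have hv1 : n i * a * (n i)⁻¹ ≠ 1 := by
    intro h1
    apply hne
    have e : a = (n i)⁻¹ * (n i * a * (n i)⁻¹) * n i := by group
    rw [e, h1]; group
  have hvn : cj (n i * a * (n i)⁻¹) (X (sr i)) = X (sr i) := by
    have e : cj (n i)⁻¹ (X (sr i)) = X (-sr i) := by rw [← c2, cj_inv_cj]
    rw [cj_mul, cj_mul, e, hn, c2]
  obtain ⟨b, hb, t, ht, c, hc, e⟩ := R.rk1 i _ hv hv1
  have h1 : cj (t * n i) (X (sr i)) = X (sr i) := by
    have e2 : t * n i = b⁻¹ * (n i * a * (n i)⁻¹) * c⁻¹ := by rw [e]; group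
    rw [e2, cj_mul, cj_mul, cj_eq_of_mem (inv_mem hc), hvn, cj_eq_of_mem (inv_mem hb)]
  have h2 : cj (t * n i) (X (sr i)) = X (-sr i) := by
    rw [cj_mul, c1, R.tor _ (isRoot_sr cs h i).neg t ht]
  exact X_ne_neg R i (h1.symm.trans h2)

/-- an element `a₁ u a₂` interchanging `X_i` and `X_{-i}` lies over `s_i` -/
theorem rp_of_swap [Finite W] {i : I} {a₁ u a₂ : Y} (ha₁ : a₁ ∈ X (sr i)) (hu : u ∈ X (-sr i))
    (ha₂ : a₂ ∈ X (sr i)) (h1 : cj (a₁ * u * a₂) (X (sr i)) = X (-sr i))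
    (h2 : cj (a₁ * u * a₂) (X (-sr i)) = X (sr i)) : Rp cs R.nsys (cs.simple i) (a₁ * u * a₂) := by
  have hu1 : u ≠ 1 := by
    rintro rfl
    rw [mul_one, cj_eq_of_mem (mul_mem ha₁ ha₂)] at h1
    exact X_ne_neg R i h1
  obtain ⟨a, ha, t, ht, b, hb, e⟩ := R.rk1 i u hu hu1
  have hg : Rp cs R.nsys (cs.simple i) (t * n i) := by
    have h2 := (rp_of_mem (cs := cs) (hN := R.nsys) ht).mul (rp_simple cs R.nsys i)
    rwa [one_mul] at h2
  have c1 : cj (t * n i) (X (sr i)) = X (-sr i) := by rw [R.conj_rp hg (isRoot_sr cs h i), rep_simple_sr]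
  have c2 : cj (t * n i) (X (-sr i)) = X (sr i) := by
    rw [R.conj_rp hg (isRoot_sr cs h i).neg, map_neg, rep_simple_sr, neg_neg]
  have e2 : a₁ * u * a₂ = (a₁ * a) * (t * n i) * (b * a₂) := by rw [e]; group
  have ha' : a₁ * a ∈ X (sr i) := mul_mem ha₁ ha
  have hb' : b * a₂ ∈ X (sr i) := mul_mem hb ha₂
  have h3 : a₁ * a = 1 := by
    refine eq_one_of_norm R ha' ?_
    rw [e2, cj_mul, cj_mul, cj_eq_of_mem hb', c1] at h1
    exact h1
  have h4 : b * a₂ = 1 := by
    refine eq_one_of_norm R hb' ?_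
    rw [e2, h3, one_mul, cj_mul] at h2
    have h5 := congrArg (cj (t * n i)⁻¹) h2
    rw [cj_inv_cj, ← c2, cj_inv_cj] at h5
    exact h5
  rw [e2, h3, h4, one_mul, mul_one]
  exact hg

/-- an element of `T` of `p`-power order is trivial -/
theorem eq_one_of_mem_T {u : Y} (hu : u ∈ T) {k : ℕ} (hk : u ^ p ^ k = 1) : u = 1 := by
  have h9 : u ^ Nat.card T = 1 := by
    have h3 : (⟨u, hu⟩ : T) ^ Nat.card T = 1 := pow_card_eq_one'
    have := congrArg Subtype.val h3
    rwa [SubgroupClass.coe_pow] at this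
  have hc : (Nat.card T).Coprime (p ^ k) := Nat.Coprime.pow_right k R.tcop
  have h10 : orderOf u ∣ 1 := by
    rw [← hc]
    exact Nat.dvd_gcd (orderOf_dvd_of_pow_eq_one h9) (orderOf_dvd_of_pow_eq_one hk)
  exact orderOf_eq_one_iff.1 (Nat.dvd_one.1 h10)

variable (C : Coord X F s)

include C

theorem rp_nn [Finite W] (i : I) (x : (F i)ˣ) : Rp cs R.nsys (cs.simple i) (s i (nn x)) := by
  have e : s i (nn x) = s i (up (x : F i)) * s i (lo (-((x⁻¹ : (F i)ˣ) : F i))) * s i (up (x : F i)) := by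
    rw [← map_mul, ← map_mul, ← nn_eq]
  have h1 := C.cj_nn i x
  have h2 := C.cj_nn' i x
  rw [e] at h1 h2 ⊢
  exact rp_of_swap R (C.mem_up i _) (C.mem_lo i _) (C.mem_up i _) h1 h2

theorem dg_mem_T [Finite W] (i : I) (t : (F i)ˣ) : s i (dg t) ∈ T := by
  rw [dg_eq, map_mul, map_inv]
  have h1 := (rp_nn R C i t).mul (rp_nn R C i 1).inv
  rw [mul_inv_cancel] at h1
  exact h1.mem_of_one

theorem T_inf_KK [Finite W] (i : I) : T ⊓ KK X (sr i) = ((s i).comp dgHom).range := by
  apply le_antisymm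
  · rintro g ⟨hgT, hgK⟩
    obtain ⟨m, rfl⟩ := C.KK_le_range i hgK
    rcases bruhat m with ⟨a, t, rfl⟩ | ⟨a, x, b, rfl⟩
    · have h1 : s i (up a) ∈ T := by
        have e : s i (up a) = s i (up a * dg t) * (s i (dg t))⁻¹ := by rw [map_mul]; group
        rw [e]
        exact mul_mem hgT (inv_mem (dg_mem_T R C i t))
      obtain ⟨k, hk⟩ := R.pgrp i ⟨_, C.mem_up i a⟩
      have h2 := eq_one_of_mem_T R h1 (k := k) (by simpa using congrArg Subtype.val hk)
      rw [map_mul, h2, one_mul]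
      exact ⟨t, rfl⟩
    · exfalso
      have h1 : Cell R.nsys cs h X (cs.simple i) (s i (up a * nn x * up b)) := by
        rw [map_mul, map_mul]
        exact ((cell_of_rp (rp_nn R C i x)).mul_left
          (RGD.X_le_B (isRoot_sr cs h i) (sr_nonneg i) (C.mem_up i a))).mul_right
          (RGD.X_le_B (isRoot_sr cs h i) (sr_nonneg i) (C.mem_up i b))
      have h2 : Cell R.nsys cs h X 1 (s i (up a * nn x * up b)) := cell_one_of_mem (RGD.T_le_B hgT)
      have h3 := Cell.unique R h1 h2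
      have h6 := cs.length_simple i
      rw [h3, cs.length_one] at h6
      exact absurd h6 (by decide)
  · rintro _ ⟨t, rfl⟩
    exact Subgroup.mem_inf.2 ⟨dg_mem_T R C i t, C.range_le_KK i ⟨_, rfl⟩⟩

/-- **The torus**: `T` is generated by the `s i (dg t)`. -/
theorem torus [Finite W] (hG : G1 cs h X = ⊤) : T = ⨆ i, ((s i).comp dgHom).range := by
  rw [← iSup_eq R hG]
  unfold T0
  exact iSup_congr fun i => T_inf_KK R C i

end R

end C

end Cfsg.Agent.OddHalf.NI.Mult
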